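import Mathlib.RingTheory.DiscreteValuationRing.Basic
import Mathlib.RingTheory.OrderOfVanishing.Basic
import Mathlib.LinearAlgebra.Dimension.Finrank
import Mathlib.LinearAlgebra.FiniteDimensional.Basic
import Mathlib.LinearAlgebra.FiniteDimensional.Lemmas
import Mathlib.Data.Set.Card

/-!
A finite dimensional space of elements of a discrete valuation ring whose residue field is the ground
field has exactly as many orders of vanishing as its dimension.
-/

set_option autoImplicit false

universe u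

namespace Groth.Agent.VanishOrders

open IsDiscreteValuationRing

variable {k : Type u} [Field k] {A : Type u} [CommRing A] [IsDomain A] [IsDiscreteValuationRing A]
  (ι : k →+* A) (hι : Function.Surjective ((IsLocalRing.residue A).comp ι))
  {E : Type u} [AddCommGroup E] [Module k E]

include hι in
theorem ncard_orders (f : E →+ A) (hf : ∀ (c : k) (e : E), f (c • e) = ι c * f e) (hinj : Function.Injective f) :
    ∀ (m : ℕ) (V : Submodule k E) [FiniteDimensional k V], Module.finrank k V = m →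
      ((fun e => addVal A (f e)) '' {e | e ∈ V ∧ e ≠ 0}).Finite ∧
      ((fun e => addVal A (f e)) '' {e | e ∈ V ∧ e ≠ 0}).ncard = m := by
  classical
  obtain ⟨ϖ, hϖ⟩ := IsDiscreteValuationRing.exists_irreducible A
  intro m
  induction m with
  | zero =>
    intro V _ hV
    rw [Submodule.finrank_eq_zero] at hV
    subst hV
    have : {e : E | e ∈ (⊥ : Submodule k E) ∧ e ≠ 0} = ∅ := Set.eq_empty_of_forall_notMem fun e he => he.2 he.1
    rw [this, Set.image_empty]
    exact ⟨Set.finite_empty, Set.ncard_empty _⟩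
  | succ m ih =>
    intro V _ hV
    have hex : ∃ n : ℕ, ∃ e ∈ V, e ≠ 0 ∧ addVal A (f e) = n := by
      obtain ⟨e, he, he0⟩ := V.ne_bot_iff.mp fun h => by rw [h, finrank_bot] at hV; omega
      obtain ⟨n, hn⟩ := WithTop.ne_top_iff_exists.mp
        (fun h => he0 (hinj (((addVal_eq_top_iff).mp h).trans (map_zero f).symm)) : addVal A (f e) ≠ ⊤)
      exact ⟨n, e, he, he0, hn.symm⟩
    obtain ⟨e₀, he₀, he₀0, hn⟩ := Nat.find_spec hex
    set n := Nat.find hex with hndef
    have hmin : ∀ e ∈ V, (n : ℕ∞) ≤ addVal A (f e) := fun e he => by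
      rcases eq_or_ne e 0 with rfl | he0
      · rw [map_zero, addVal_zero]; exact le_top
      · rcases eq_or_ne (addVal A (f e)) ⊤ with h | h
        · rw [h]; exact le_top
        · obtain ⟨l, hl⟩ := WithTop.ne_top_iff_exists.mp h
          rw [← hl]
          exact Nat.cast_le.mpr (Nat.find_min' hex ⟨e, he, he0, hl.symm⟩)
    have hdvd : ∀ x : A, (n : ℕ∞) ≤ addVal A x → ϖ ^ n ∣ x := fun x hx =>
      addVal_le_iff_dvd.mp (by rwa [hϖ.addVal_pow])
    obtain ⟨a₀, ha₀⟩ := hdvd _ (hmin e₀ he₀)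
    have hu₀ : IsUnit a₀ := by
      by_contra hu
      obtain ⟨b, hb⟩ : ϖ ∣ a₀ := by
        rw [← Ideal.mem_span_singleton, ← hϖ.maximalIdeal_eq]
        exact hu
      have h1 : ϖ ^ (n + 1) ∣ f e₀ := ⟨b, by rw [ha₀, hb, pow_succ, mul_assoc]⟩
      have h2 := addVal_le_iff_dvd.mpr h1
      rw [hϖ.addVal_pow, hn] at h2
      exact absurd (Nat.cast_le.mp h2) (by omega)
    let V' : Submodule k E :=
      { carrier := {e | e ∈ V ∧ ϖ ^ (n + 1) ∣ f e}
        add_mem' := fun ha hb => ⟨add_mem ha.1 hb.1, by rw [map_add]; exact dvd_add ha.2 hb.2⟩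
        zero_mem' := ⟨zero_mem _, by rw [map_zero]; exact dvd_zero _⟩
        smul_mem' := fun c e he => ⟨V.smul_mem c he.1, by rw [hf]; exact Dvd.dvd.mul_left he.2 _⟩ }
    have hV'V : V' ≤ V := fun e he => he.1
    haveI : FiniteDimensional k V' := Submodule.finiteDimensional_of_le hV'V
    have hsplit : V' ⊔ Submodule.span k {e₀} = V := by
      refine le_antisymm (sup_le hV'V ((Submodule.span_singleton_le_iff_mem _ _).mpr he₀)) fun e he => ?_
      obtain ⟨a, ha⟩ := hdvd _ (hmin e he)
      obtain ⟨c, hc⟩ := hι (IsLocalRing.residue A (a * ↑hu₀.unit⁻¹))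
      refine Submodule.mem_sup.mpr ⟨e - c • e₀, ⟨sub_mem he (V.smul_mem c he₀), ?_⟩, c • e₀,
        Submodule.smul_mem _ _ (Submodule.mem_span_singleton_self _), sub_add_cancel _ _⟩
      have h1 : ϖ ∣ a - ι c * a₀ := by
        rw [← Ideal.mem_span_singleton, ← hϖ.maximalIdeal_eq, ← IsLocalRing.residue_eq_zero_iff, map_sub, map_mul,
          show IsLocalRing.residue A (ι c) = _ from hc, ← map_mul, mul_assoc, IsUnit.val_inv_mul, mul_one, sub_self]
      obtain ⟨b, hb⟩ := h1
      exact ⟨b, by rw [map_sub, hf, ha, ha₀]; linear_combination (ϖ ^ n) * hb⟩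
    have he₀' : e₀ ∉ V' := fun h => by
      have h2 := addVal_le_iff_dvd.mpr h.2
      rw [hϖ.addVal_pow, hn] at h2
      exact absurd (Nat.cast_le.mp h2) (by omega)
    have hdim : Module.finrank k V' = m := by
      have h1 := Submodule.finrank_sup_add_finrank_inf_eq V' (Submodule.span k {e₀})
      rw [hsplit, hV, finrank_span_singleton he₀0, show V' ⊓ Submodule.span k {e₀} = ⊥ from ?_, finrank_bot] at h1
      · omega
      · refine (Submodule.eq_bot_iff _).mpr fun e he => ?_
        obtain ⟨c, hc⟩ := Submodule.mem_span_singleton.mp he.2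
        by_contra hne
        have hc0 : c ≠ 0 := fun h => hne (by rw [← hc, h, zero_smul])
        refine he₀' ?_
        have := V'.smul_mem c⁻¹ he.1
        rwa [← hc, smul_smul, inv_mul_cancel₀ hc0, one_smul] at this
    obtain ⟨hfin, hcard⟩ := ih V' hdim
    have himg : (fun e => addVal A (f e)) '' {e | e ∈ V ∧ e ≠ 0} =
        insert (n : ℕ∞) ((fun e => addVal A (f e)) '' {e | e ∈ V' ∧ e ≠ 0}) := by
      ext v
      constructor
      · rintro ⟨e, ⟨he, he0⟩, rfl⟩
        by_cases he' : e ∈ V'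
        · exact Or.inr ⟨e, ⟨he', he0⟩, rfl⟩
        · refine Or.inl (le_antisymm ?_ (hmin e he))
          by_contra hlt
          refine he' ⟨he, addVal_le_iff_dvd.mp ?_⟩
          rw [hϖ.addVal_pow]
          simpa using Order.add_one_le_of_lt (not_le.mp hlt)
      · rintro (rfl | ⟨e, ⟨he, he0⟩, rfl⟩)
        · exact ⟨e₀, ⟨he₀, he₀0⟩, hn⟩
        · exact ⟨e, ⟨he.1, he0⟩, rfl⟩
    have hnot : (n : ℕ∞) ∉ (fun e => addVal A (f e)) '' {e | e ∈ V' ∧ e ≠ 0} := by
      rintro ⟨e, ⟨he, -⟩, hev⟩
      have h2 := addVal_le_iff_dvd.mpr he.2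
      rw [hϖ.addVal_pow, show addVal A (f e) = n from hev] at h2
      exact absurd (Nat.cast_le.mp h2) (by omega)
    rw [himg]
    exact ⟨hfin.insert _, by rw [Set.ncard_insert_of_notMem hnot hfin, hcard]⟩

end Groth.Agent.VanishOrders
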