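import Groth.Agent.W7Strat.Frame
import Groth.Agent.VanishOrders.Dvr
import Mathlib.RingTheory.OrderOfVanishing.Noetherian

/-!
The order of vanishing of a section of an invertible module at a point.
-/

set_option autoImplicit false
set_option backward.isDefEq.respectTransparency false
set_option backward.isDefEq.respectTransparency.types false

universe u

open CategoryTheory AlgebraicGeometry TopologicalSpace Opposite
open Groth.Agent.QC (res res_self)
open Groth.Agent.WeakAssLib (mgerm)
open TMul (IsGen)

noncomputable section

namespace Groth.Agent.VanishOrders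

variable {X : Scheme.{u}} {L : X.Modules}

/-- A generator gives an isomorphism of the stalk with the local ring. -/
theorem bijective_smul_germ {U : X.Opens} {g : Γ(L, U)} (hg : IsGen g) {x : X} (hx : x ∈ U) :
    Function.Bijective fun a : X.presheaf.stalk x => a • mgerm L hx g := by
  have hF : TMul.IsFrame (fun _ : Fin 1 => g) := W7Strat.isFrame_of_bijective fun V hV => by
    have e : (fun c : Fin 1 → Γ(X, V) => ∑ i, c i • res L hV g) =
        (fun a : Γ(X, V) => a • res L hV g) ∘ (Equiv.funUnique (Fin 1) Γ(X, V)) := by
      funext c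
      rw [Fin.sum_univ_one]
      rfl
    rw [e]
    exact (hg V hV).comp (Equiv.bijective _)
  have e : (fun a : X.presheaf.stalk x => a • mgerm L hx g) =
      (fun c : Fin 1 → X.presheaf.stalk x => ∑ i : Fin 1, c i • mgerm L hx g) ∘
        (Equiv.funUnique (Fin 1) (X.presheaf.stalk x)).symm := by
    funext a
    simp
  rw [e]
  exact (hF x hx).comp (Equiv.bijective _)

theorem length_quot_span_smul {U : X.Opens} {g : Γ(L, U)} (hg : IsGen g) {x : X} (hx : x ∈ U)
    [IsDomain (X.presheaf.stalk x)] [IsDiscreteValuationRing (X.presheaf.stalk x)]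
    (a : X.presheaf.stalk x) :
    Module.length (X.presheaf.stalk x) (↥(L.presheaf.stalk x) ⧸
      Submodule.span (X.presheaf.stalk x) {a • mgerm L hx g}) =
      IsDiscreteValuationRing.addVal (X.presheaf.stalk x) a := by
  let θ : X.presheaf.stalk x ≃ₗ[X.presheaf.stalk x] ↥(L.presheaf.stalk x) :=
    LinearEquiv.ofBijective (LinearMap.toSpanSingleton _ _ (mgerm L hx g)) (bijective_smul_germ hg hx)
  rw [← Ring.ord_eq_addVal, Ring.ord]
  refine (Submodule.Quotient.equiv _ _ θ ?_).length_eq.symm
  rw [← Ideal.submodule_span_eq, Submodule.map_span, Set.image_singleton]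
  rfl

end Groth.Agent.VanishOrders
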